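import Groth.Agent.TorsorApx.Basic
import Groth.Agent.Torsor.Descent
import Groth.Agent.FpqcDescent.Affine
import Groth.Prelude.Def_ActBC
import Mathlib

/-!
Torsors under affine smooth groups over `A[1/t]` which are trivial over `Â[1/t]` are trivial.
-/

set_option autoImplicit false
set_option linter.style.haveILetI false
set_option backward.isDefEq.respectTransparency false
set_option backward.isDefEq.respectTransparency.types false

universe u

open CategoryTheory MonoidalCategory CartesianMonoidalCategory MonObj GrpObj AlgebraicGeometry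

noncomputable section

namespace Groth.Agent.TorsorApx

theorem hasSection (A : Type u) [CommRing A] (t : A) [HenselianRing A (Ideal.span {t})]
    (hbd : ∃ N : ℕ, ∀ a : A, (∃ m : ℕ, t ^ m * a = 0) → t ^ N * a = 0)
    (G : Over (Spec (CommRingCat.of (Localization.Away t)))) [GrpObj G] [IsAffine G.left] [Smooth G.hom]
    (P : Over (Spec (CommRingCat.of (Localization.Away t)))) (a : AlgGrp.Action G P)
    (hP : NonAbH1.IsTorsorFor Scheme.fppfPrecoverage a)
    (hsec : NonAbH1.HasSectionOver P (Spec.map (CommRingCat.ofHom (Localization.awayMap (algebraMap A (AdicCompletion (Ideal.span {t}) A)) t)))) :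
    NonAbH1.HasSectionOver P (𝟙 (Spec (CommRingCat.of (Localization.Away t)))) := by
  obtain ⟨hps, R, hR, hloc⟩ := hP
  have hP' : NonAbH1.IsTorsorFor Scheme.fpqcPrecoverage a :=
    ⟨hps, R, Scheme.fppfPrecoverage_le_fpqcPrecoverage _ hR, hloc⟩
  haveI : IsAffineHom P.hom := Groth.Agent.Torsor.of_isTorsorFor hP' @IsAffineHom
    (isAffineHom_of_isAffine G.hom)
  haveI : Smooth P.hom := Groth.Agent.Torsor.of_isTorsorFor hP' @Smooth inferInstance
  haveI : IsAffine P.left := isAffine_of_isAffineHom P.hom
  let io := Spec.preimage (P.left.isoSpec.inv ≫ P.hom)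
  have hio : Spec.map io = P.left.isoSpec.inv ≫ P.hom := Spec.map_preimage _
  have hsm : io.hom.Smooth := by
    rw [← HasRingHomProperty.Spec_iff (P := @Smooth), hio]
    infer_instance
  obtain ⟨s, hs⟩ := hsec
  let φ := Spec.preimage (s ≫ P.left.isoSpec.hom)
  have hφ : Spec.map φ = s ≫ P.left.isoSpec.hom := Spec.map_preimage _
  have hφio : io ≫ φ = CommRingCat.ofHom (Localization.awayMap (algebraMap A (AdicCompletion (Ideal.span {t}) A)) t) :=
    Spec.map_injective (by rw [Spec.map_comp, hio, hφ, Category.assoc, Iso.hom_inv_id_assoc, hs])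
  letI : Algebra (Localization.Away t) Γ(P.left, ⊤) := io.hom.toAlgebra
  letI : Algebra A Γ(P.left, ⊤) := (io.hom.comp (algebraMap A (Localization.Away t))).toAlgebra
  haveI : IsScalarTower A (Localization.Away t) Γ(P.left, ⊤) := .of_algebraMap_eq fun _ => rfl
  haveI : Algebra.Smooth (Localization.Away t) Γ(P.left, ⊤) := hsm
  obtain ⟨ψ⟩ := exists_point t hbd Γ(P.left, ⊤) φ.hom (congrArg CommRingCat.Hom.hom hφio)
  refine ⟨Spec.map (CommRingCat.ofHom ψ.toRingHom) ≫ P.left.isoSpec.inv, ?_⟩
  rw [Category.assoc, ← hio, ← Spec.map_comp, ← Spec.map_id]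
  congr 1
  exact CommRingCat.hom_ext (RingHom.ext fun l => ψ.commutes l)

end Groth.Agent.TorsorApx
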