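import Groth.Agent.RigPts.SmoothNewton
import Mathlib

/-!
Points of smooth affine `A[1/t]`-algebras in `Â[1/t]` are approximated by `A[1/t]`-points.
-/

set_option autoImplicit false
set_option linter.style.haveILetI false
set_option backward.isDefEq.respectTransparency false

universe u

open MvPolynomial

noncomputable section

namespace Groth.Agent.TorsorApx

open RigPts

variable {A : Type u} [CommRing A] (t : A)

abbrev Ah : Type u := AdicCompletion (Ideal.span ({t} : Set A)) A

theorem torsion_adic (N : ℕ) (hbd : ∀ a : A, (∃ m : ℕ, t ^ m * a = 0) → t ^ N * a = 0) (z : (Ah t)) (m : ℕ)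
    (hz : algebraMap A (Ah t) (t ^ m) * z = 0) : algebraMap A (Ah t) (t ^ N) * z = 0 := by
  induction z using AdicCompletion.induction_on with
  | h s =>
    refine AdicCompletion.ext_evalₐ fun n => ?_
    have h1 := congrArg (AdicCompletion.evalₐ (Ideal.span {t}) (n + m)) hz
    rw [map_mul, AlgHom.commutes, AdicCompletion.evalₐ_mk, map_zero, Ideal.Quotient.algebraMap_eq, ← map_mul,
      Ideal.Quotient.eq_zero_iff_mem, Ideal.span_singleton_pow, Ideal.mem_span_singleton'] at h1
    obtain ⟨w, hw⟩ := h1
    have h2 := hbd (s.val (n + m) - w * t ^ n) ⟨m, by rw [mul_sub, ← hw, pow_add]; ring⟩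
    rw [map_mul, AlgHom.commutes, AdicCompletion.evalₐ_mk, map_zero, Ideal.Quotient.algebraMap_eq, ← map_mul,
      Ideal.Quotient.eq_zero_iff_mem]
    have hs : s.val n - s.val (n + m) ∈ Ideal.span {t} ^ n := by
      have := SModEq.sub_mem.1 (s.property (Nat.le_add_right n m))
      rwa [smul_eq_mul, Ideal.mul_top] at this
    have e : t ^ N * s.val n = t ^ N * (s.val n - s.val (n + m)) + t ^ N * w * t ^ n := by
      rw [mul_sub] at h2
      linear_combination h2
    rw [e]
    exact add_mem (Ideal.mul_mem_left _ _ hs) (Ideal.mul_mem_left _ _ (by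
      rw [Ideal.span_singleton_pow]; exact Ideal.mem_span_singleton_self _))

set_option maxHeartbeats 1000000

variable [HenselianRing A (Ideal.span {t})]

/-- The approximation. -/
theorem exists_point (hbd : ∃ N : ℕ, ∀ a : A, (∃ m : ℕ, t ^ m * a = 0) → t ^ N * a = 0)
    (B' : Type u) [CommRing B'] [Algebra A B'] [Algebra (Localization.Away t) B']
    [IsScalarTower A (Localization.Away t) B'] [Algebra.Smooth (Localization.Away t) B']
    (φ : B' →+* Localization.Away (algebraMap A (Ah t) t))
    (hφ : φ.comp (algebraMap (Localization.Away t) B') = Localization.awayMap (algebraMap A (Ah t)) t) :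
    Nonempty (B' →ₐ[Localization.Away t] Localization.Away t) := by
  classical
  obtain ⟨N, hN⟩ := hbd
  let L := Localization.Away t
  let Lh := Localization.Away (algebraMap A (Ah t) t)
  haveI : Algebra.FinitePresentation A L := IsLocalization.Away.finitePresentation t
  haveI : Algebra.FinitePresentation A B' := Algebra.FinitePresentation.trans A L B'
  haveI : Algebra.FormallySmooth A L := Algebra.FormallySmooth.of_isLocalization (Submonoid.powers t)
  haveI : Algebra.FormallySmooth A B' := Algebra.FormallySmooth.comp A L B'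
  have hφA : ∀ a : A, φ (algebraMap A B' a) = algebraMap (Ah t) Lh (algebraMap A (Ah t) a) := fun a => by
    rw [IsScalarTower.algebraMap_apply A L B']
    show φ.comp (algebraMap L B') (algebraMap A L a) = _
    rw [hφ, Localization.awayMap, IsLocalization.Away.map, IsLocalization.map_eq]
  obtain ⟨n, ρ, hρ⟩ := Algebra.FiniteType.iff_quotient_mvPolynomial''.1
    (inferInstance : Algebra.FiniteType L B')
  -- integral generators
  choose zn hzn using fun i => IsLocalization.surj (Submonoid.powers (algebraMap A (Ah t) t)) (φ (ρ (X i)))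
  choose e he using fun i => (zn i).2.2
  let E := Finset.univ.sup e
  let b : Fin n → B' := fun i => algebraMap A B' (t ^ E) * ρ (X i)
  let xh : Fin n → (Ah t) := fun i => algebraMap A (Ah t) (t ^ (E - e i)) * (zn i).1
  have hxh : ∀ i, φ (b i) = algebraMap (Ah t) Lh (xh i) := fun i => by
    have h1 := hzn i
    rw [← he i] at h1
    simp only [b, xh, map_mul, hφA]
    rw [← h1]
    have hE : E = E - e i + e i := (Nat.sub_add_cancel (Finset.le_sup (f := e) (Finset.mem_univ i))).symm
    conv_lhs => rw [hE, pow_add]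
    simp only [map_pow, map_mul]
    ring
  let π₀ : MvPolynomial (Fin n) A →ₐ[A] B' := aeval b
  let B := π₀.range
  let π : MvPolynomial (Fin n) A →ₐ[A] B := π₀.rangeRestrict
  haveI hloc : IsLocalization.Away (algebraMap A B t) B' := by
    have hu : IsUnit (algebraMap A B' t) := by
      rw [IsScalarTower.algebraMap_apply A L B']
      exact (IsLocalization.Away.algebraMap_isUnit t).map _
    refine ⟨?_, fun z => ?_, fun {x y} h => ⟨1, by rw [Subtype.ext h]⟩⟩
    · rintro ⟨_, k, rfl⟩
      show IsUnit (algebraMap B B' (algebraMap A B t ^ k))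
      rw [map_pow]
      exact hu.pow k
    suffices ∃ (k : ℕ) (y : B'), y ∈ B ∧ z * algebraMap A B' (t ^ k) = y by
      obtain ⟨k, y, hy, hk⟩ := this
      refine ⟨⟨⟨y, hy⟩, ⟨_, k, rfl⟩⟩, ?_⟩
      show z * algebraMap B B' (algebraMap A B t ^ k) = y
      rw [← map_pow]
      exact hk
    obtain ⟨P, rfl⟩ := hρ z
    induction P using MvPolynomial.induction_on with
    | C a =>
      obtain ⟨⟨r, _, k, rfl⟩, hr⟩ := IsLocalization.surj (Submonoid.powers t) a
      refine ⟨k, algebraMap A B' r, Subalgebra.algebraMap_mem _ r, ?_⟩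
      rw [← algebraMap_eq, AlgHom.commutes, IsScalarTower.algebraMap_apply A L B' (t ^ k),
        IsScalarTower.algebraMap_apply A L B' r, ← map_mul, hr]
    | add p q hp hq =>
      obtain ⟨k, y, hy, hk⟩ := hp
      obtain ⟨l, w, hw, hl⟩ := hq
      refine ⟨k + l, y * algebraMap A B' (t ^ l) + w * algebraMap A B' (t ^ k),
        add_mem (mul_mem hy (Subalgebra.algebraMap_mem _ _)) (mul_mem hw (Subalgebra.algebraMap_mem _ _)), ?_⟩
      rw [map_add, ← hk, ← hl, pow_add, map_mul]
      ring
    | mul_X p i hp =>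
      obtain ⟨k, y, hy, hk⟩ := hp
      refine ⟨k + E, y * b i, mul_mem hy ⟨X i, aeval_X _ _⟩, ?_⟩
      rw [map_mul, ← hk, pow_add, map_mul]
      simp only [b]
      ring
  let eAw : Aw B t ≃ₐ[A] B' :=
    (IsLocalization.algEquiv (Submonoid.powers (algebraMap A B t)) (Aw B t) B').restrictScalars A
  haveI : Algebra.FormallySmooth A (Aw B t) := Algebra.FormallySmooth.of_equiv eAw.symm
  haveI : Algebra.FinitePresentation A (Aw B t) := Algebra.FinitePresentation.equiv eAw.symm
  obtain ⟨r, f, g, c, hfπ, hg, hrel, hJ⟩ := exists_smooth_system t π π₀.rangeRestrict_surjective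
  -- kill the torsion
  let f' : Fin r → MvPolynomial (Fin n) A := fun k => C (t ^ N) * f k
  let g' : Fin n → MvPolynomial (Fin n) A := fun i => C (t ^ N) * g i
  have hspan : ∀ p ∈ Ideal.span (Set.range f), C (t ^ N) * p ∈ Ideal.span (Set.range f') := fun p hp => by
    refine Submodule.span_induction (p := fun p _ => C (t ^ N) * p ∈ Ideal.span (Set.range f')) ?_ ?_ ?_ ?_ hp
    · rintro _ ⟨k, rfl⟩; exact Ideal.subset_span ⟨k, rfl⟩
    · simp
    · intro x y _ _ hx hy; rw [mul_add]; exact add_mem hx hy
    · intro a x _ hx; rw [smul_eq_mul, mul_left_comm]; exact Ideal.mul_mem_left _ _ hx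
  have hsq : ∀ p ∈ Ideal.span (Set.range f) ^ 2, C (t ^ N) * C (t ^ N) * p ∈ Ideal.span (Set.range f') ^ 2 := by
    intro p hp
    rw [sq] at hp ⊢
    refine Submodule.mul_induction_on (C := fun p => C (t ^ N) * C (t ^ N) * p ∈ _) hp (fun a ha b hb => ?_)
      (fun a b ha hb => by rw [mul_add]; exact add_mem ha hb)
    rw [mul_mul_mul_comm]
    exact Ideal.mul_mem_mul (hspan a ha) (hspan b hb)
  have hrel' : ∀ k, C (t ^ (c + N)) * f' k - ∑ i, pderiv i (f' k) * g' i ∈ Ideal.span (Set.range f') ^ 2 := fun k => by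
    have := hsq _ (hrel k)
    have e : C (t ^ N) * C (t ^ N) * (C (t ^ c) * f k - ∑ i, pderiv i (f k) * g i) =
        C (t ^ (c + N)) * f' k - ∑ i, pderiv i (f' k) * g' i := by
      simp only [f', g', pderiv_C_mul, mul_sub, Finset.mul_sum, pow_add, C_mul, smul_eq_C_mul]
      congr 1
      · ring
      · refine Finset.sum_congr rfl fun i _ => ?_
        ring
    rwa [e] at this
  have hf'0 : ∀ k, aeval xh (f' k) = (0 : (Ah t)) := fun k => by
    have h0 : φ (π₀ (f k)) = 0 := by
      rw [show π₀ (f k) = 0 from congrArg Subtype.val (hfπ k), map_zero]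
    have h1 : φ (π₀ (f k)) = algebraMap (Ah t) Lh (aeval xh (f k)) := by
      refine RingHom.congr_fun (g := (algebraMap (Ah t) Lh).comp (aeval xh).toRingHom)
        (MvPolynomial.ringHom_ext (f := φ.comp π₀.toRingHom) (fun a => ?_) (fun i => ?_)) (f k)
      · show φ (π₀ (C a)) = algebraMap (Ah t) Lh (aeval xh (C a))
        rw [aeval_C, ← algebraMap_eq, AlgHom.commutes, hφA]
      · show φ (π₀ (X i)) = algebraMap (Ah t) Lh (aeval xh (X i))
        simp [π₀, hxh]
    rw [h0, eq_comm, IsLocalization.map_eq_zero_iff (Submonoid.powers (algebraMap A (Ah t) t))] at h1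
    obtain ⟨⟨_, m, rfl⟩, hm⟩ := h1
    simp only [f', map_mul, aeval_C]
    exact torsion_adic t N hN _ m (by rw [map_pow]; exact hm)
  let a := max N (2 * (c + N) + 1)
  choose x₀ hx₀ using fun i => Ideal.Quotient.mk_surjective
    (AdicCompletion.evalₐ (Ideal.span {t}) (a + (c + N)) (xh i))
  have hx₀f : ∀ k, eval x₀ (f' k) ∈ Ideal.span {t ^ (a + (c + N))} := fun k => by
    rw [← Ideal.span_singleton_pow, ← Ideal.Quotient.eq_zero_iff_mem]
    have h1 : AdicCompletion.evalₐ (Ideal.span {t}) (a + (c + N)) (aeval xh (f' k)) = 0 := by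
      rw [hf'0, map_zero]
    rw [← AlgHom.comp_apply, comp_aeval] at h1
    rw [← h1]
    show (Ideal.Quotient.mkₐ A _) (eval x₀ (f' k)) = _
    rw [← aeval_eq_eval, ← AlgHom.comp_apply, comp_aeval]
    congr 1
    exact algHom_ext fun i => by simp [hx₀]
  obtain ⟨x, -, hx⟩ := smooth_newton t N hN f' g' (fun i => hspan _ (hg i)) (c + N) hrel' a (le_max_right _ _)
    (le_max_left _ _) x₀ hx₀f
  have hker : ∀ p, π p = 0 → algebraMap A L (eval x p) = 0 := fun p hp => by
    obtain ⟨m, hm⟩ := hJ p hp
    have h2 : eval x (C (t ^ N) * (C (t ^ m) * p)) = 0 := by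
      have : Ideal.span (Set.range f') ≤ RingHom.ker (eval x) :=
        Ideal.span_le.2 (by rintro _ ⟨k, rfl⟩; exact hx k)
      exact this (hspan _ hm)
    rw [map_mul, map_mul, eval_C, eval_C, ← mul_assoc, ← pow_add] at h2
    exact (IsLocalization.map_eq_zero_iff (Submonoid.powers t) L _).2 ⟨⟨_, N + m, rfl⟩, h2⟩
  let ψ₀ : B →ₐ[A] L := AlgHom.liftOfSurjective π π₀.rangeRestrict_surjective
    ((Algebra.ofId A L).comp (aeval x)) (fun p hp => by
      show algebraMap A L (aeval x p) = 0
      rw [aeval_eq_eval]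
      exact hker p hp)
  have hu : ∀ y : Submonoid.powers (algebraMap A B t), IsUnit (ψ₀ y) := by
    rintro ⟨_, k, rfl⟩
    simp only [map_pow, AlgHom.commutes]
    exact (IsLocalization.Away.algebraMap_isUnit t).pow k
  let ψ : B' →ₐ[A] L := IsLocalization.liftAlgHom (M := Submonoid.powers (algebraMap A B t)) (f := ψ₀) hu
  exact ⟨{ ψ.toRingHom with
    commutes' := fun l => by
      have : ψ.toRingHom.comp (algebraMap L B') = algebraMap L L :=
        IsLocalization.ringHom_ext (Submonoid.powers t) (RingHom.ext fun a => by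
          simp only [RingHom.comp_apply, Algebra.algebraMap_self, RingHom.id_apply]
          rw [← IsScalarTower.algebraMap_apply A L B']
          exact ψ.commutes a)
      exact RingHom.congr_fun this l }⟩

end Groth.Agent.TorsorApx
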